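import Groth.Agent.Lib.SemiNhd19.Pseudo
import Groth.Agent.Lib.SemiNhd19.Tors

/-!
# The equivalent conditions on multiplication by `m` on a group scheme over a discrete valuation ring
-/

set_option autoImplicit false
set_option linter.style.haveILetI false
set_option linter.unusedSectionVars false
set_option backward.isDefEq.respectTransparency false
universe u

open CategoryTheory CategoryTheory.Limits MonoidalCategory CartesianMonoidalCategory MonObj GrpObj AlgebraicGeometry

noncomputable section

namespace Groth.Agent.MulFlat8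

open SemiNhd19

section field

variable {K : Type u} [Field K] (A : Over (Spec (CommRingCat.of K))) [GrpObj A] [LocallyOfFiniteType A.hom]
  [QuasiCompact A.hom] (f : A ⟶ A) [IsMonHom f]

/-- A surjective endomorphism is quasi-finite. -/
theorem lqf_of_surjective [Surjective f.left] : LocallyQuasiFinite f.left := by
  haveI : IsSeparated A.hom := AbRigid.isSeparated_of_grpObj A
  haveI : QuasiCompact f.left := Semiab15.qc_left f
  haveI : LocallyOfFiniteType f.left := AlgGrpBasic19.lft_left f
  let N := pullback f η[A]
  let i : N ⟶ A := pullback.fst f η[A]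
  have hN : IsPullback i (toUnit _) f η[A] := by
    rw [toUnit_unique (toUnit _) (pullback.snd f η[A])]
    exact IsPullback.of_hasPullback f η[A]
  obtain ⟨-, hsum⟩ := GrpDim20.range_closed_and_dim A A N f i hN
  obtain ⟨_, hi⟩ := GrpDim20.exists_grpObj_kernel f i hN
  haveI : LocallyOfFiniteType N.hom := GrpUnr20.kernel_hom f i hN (P := @LocallyOfFiniteType) inferInstance
  obtain ⟨d, hd⟩ := NeronIsog19.exists_dim_eq A
  obtain ⟨e, he⟩ := NeronIsog19.exists_dim_eq N
  have hr : topologicalKrullDim (Set.range f.left.base) = topologicalKrullDim A.left := by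
    rw [show Set.range f.left.base = Set.univ from f.left.surjective.range_eq]
    exact (Homeomorph.Set.univ A.left).isHomeomorph.topologicalKrullDim_eq
  rw [hr, hd, he] at hsum
  have he0 : e = 0 := by
    have h : d = d + e := by exact_mod_cast hsum
    omega
  refine GrpUnr20.locallyQuasiFinite_of_kernel f i hN ((GrpUnr20.locallyQuasiFinite_iff N.hom).2 fun x => ?_)
  rw [GrpDim20.fibreDimAt_point, GrpCM20.localDim_eq, he, he0]
  rfl

/-- A flat endomorphism of a connected group is surjective. -/
theorem surjective_of_flat [ConnectedSpace ↥A.left] [Flat f.left] : Surjective f.left := by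
  haveI : IsSeparated A.hom := AbRigid.isSeparated_of_grpObj A
  haveI : QuasiCompact f.left := Semiab15.qc_left f
  haveI : LocallyOfFiniteType f.left := AlgGrpBasic19.lft_left f
  haveI : IsLocallyNoetherian A.left := LocallyOfFiniteType.isLocallyNoetherian A.hom
  let N := pullback f η[A]
  let i : N ⟶ A := pullback.fst f η[A]
  have hN : IsPullback i (toUnit _) f η[A] := by
    rw [toUnit_unique (toUnit _) (pullback.snd f η[A])]
    exact IsPullback.of_hasPullback f η[A]
  obtain ⟨hc, -⟩ := GrpDim20.range_closed_and_dim A A N f i hN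
  have hcl : IsClopen (Set.range f.left.base) := ⟨hc, f.left.isOpenMap.isOpen_range⟩
  refine ⟨fun x => ?_⟩
  have h := hcl.eq_univ ⟨f.left (η[A].left (IsLocalRing.closedPoint K)), _, rfl⟩
  exact h.ge (Set.mem_univ x)

end field

variable {R : Type u} [CommRing R] [IsDomain R] [IsDiscreteValuationRing R]
  (G : Over (Spec (CommRingCat.of R))) [GrpObj G] [Smooth G.hom] [IsSeparated G.hom] [QuasiCompact G.hom]
  [IsCommMonObj G] (m : ℕ)

/-- Fibrewise quasi-finite powers are flat and quasi-finite. -/
theorem flat_lqf_of_fibres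
    (h : ∀ y : ↥(Spec (CommRingCat.of R)), LocallyQuasiFinite
      ((Over.pullback ((Spec (CommRingCat.of R)).fromSpecResidueField y)).map (𝟙 G ^ m)).left) :
    Flat (𝟙 G ^ m).left ∧ LocallyQuasiFinite (𝟙 G ^ m).left := by
  haveI := TorsLift22.isMonHom_zpow G m
  let f : G ⟶ G := 𝟙 G ^ m
  let S := Spec (CommRingCat.of R)
  haveI : LocallyOfFiniteType (f.left ≫ G.hom) := by rw [Over.w]; infer_instance
  haveI : LocallyOfFiniteType f.left := locallyOfFiniteType_of_comp f.left G.hom
  have hd : ∀ y : S, FlatMor.fibreDimAt f.left (η[G].left y) ≤ ((0 : ℕ) : WithBot ℕ∞) := by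
    intro y
    let a := S.fromSpecResidueField y
    haveI : LocallyQuasiFinite ((Over.pullback a).map f).left := h y
    have h0 := (fibreDimAt_unit f a).trans
      (congrArg (fun z => FlatMor.fibreDimAt f.left (η[G].left z)) (Scheme.fromSpecResidueField_apply y _))
    haveI hl : LocallyOfFiniteType ((Over.pullback a).map f).left :=
      MorphismProperty.of_isPullback (isPullback_map a f) ‹LocallyOfFiniteType f.left›
    refine le_of_eq (h0.symm.trans ?_)
    exact FibDim14.fibreDimAt_eq_zero _ _
  obtain ⟨hf, hq⟩ := flat_lqf_restrict f (⊤ : S.Opens) fun y _ => ⟨hd y, rfl⟩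
  haveI : IsIso (Scheme.Opens.ι (⊤ : S.Opens)) := inferInstanceAs (IsIso (Scheme.topIso S).hom)
  let e : Arrow.mk ((Over.pullback (⊤ : S.Opens).ι).map f).left ≅ Arrow.mk f.left :=
    Arrow.isoMk (asIso (pullback.fst G.hom _)) (asIso (pullback.fst G.hom _))
      (isPullback_map (Scheme.Opens.ι (⊤ : S.Opens)) f).w
  exact ⟨(MorphismProperty.arrow_mk_iso_iff @Flat e).1 hf, (MorphismProperty.arrow_mk_iso_iff @LocallyQuasiFinite e).1 hq⟩

/-- A flat power in a residue characteristic dividing it excludes additive subgroups. -/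
theorem fibreUnipotentRankZero_of_flat (hm : (m : IsLocalRing.ResidueField R) = 0) (hf : Flat (𝟙 G ^ m).left) :
    SGA7.FibreUnipotentRankZero (IsLocalRing.closedPoint R) G := by
  intro j hj hjc
  haveI := hj; haveI := hjc
  let s₀ : Spec (CommRingCat.of R) := IsLocalRing.closedPoint R
  let L := AlgebraicClosure ((Spec (CommRingCat.of R)).residueField s₀)
  let φ := Red.geomPt s₀
  let A := Red.bc φ G
  haveI : LocallyOfFiniteType A.hom := inferInstanceAs (LocallyOfFiniteType (pullback.snd G.hom φ))
  haveI : QuasiCompact A.hom := inferInstanceAs (QuasiCompact (pullback.snd G.hom φ))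
  have e : (Over.pullback φ).map (𝟙 G ^ m) = 𝟙 A ^ m :=
    (map_pow (Over.pullback φ).homMonoidHom (𝟙 G) m).trans (congrArg (· ^ m) ((Over.pullback φ).map_id G))
  haveI : Flat (𝟙 A ^ m).left := by
    rw [← e]; exact MorphismProperty.of_isPullback (isPullback_map φ (𝟙 G ^ m)) hf
  haveI := TorsLift22.isMonHom_zpow A m
  refine not_Ga_of_flat (L := L) (𝟙 A ^ m) rfl j ?_
  have hn : ringChar (IsLocalRing.ResidueField R) ∣ m := (ringChar.spec _ m).1 hm
  have hL : (m : L) = 0 := by
    rw [← map_natCast (algebraMap ((Spec (CommRingCat.of R)).residueField s₀) L)]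
    exact (congrArg _ (natCast_residueField_eq_zero hn)).trans (map_zero _)
  have hGa : (𝟙 (Red.Ga (Spec (CommRingCat.of L)))) ^ m = 1 := by
    refine GaPts.gaFn_injective ?_
    show Red.gaFn (𝟙 (Red.Ga (Spec (CommRingCat.of L))) ^ m) = Red.gaFn 1
    have hp : ∀ n : ℕ, Red.gaFn (𝟙 (Red.Ga (Spec (CommRingCat.of L))) ^ n) =
        (n : Γ((Red.Ga (Spec (CommRingCat.of L))).left, ⊤)) * Red.gaFn (𝟙 (Red.Ga (Spec (CommRingCat.of L)))) := by
      intro n
      induction n with
      | zero => rw [pow_zero, GaPts.gaFn_one, Nat.cast_zero, zero_mul]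
      | succ n ih => rw [pow_succ, GaPts.gaFn_mul, ih, Nat.cast_succ, add_mul, _root_.one_mul]
    have hz : (m : Γ((Red.Ga (Spec (CommRingCat.of L))).left, ⊤)) = 0 := by
      have h0 := congrArg (((Red.Ga (Spec (CommRingCat.of L))).hom.appTop.hom).comp
        (Scheme.ΓSpecIso (CommRingCat.of L)).inv.hom) hL
      rwa [map_natCast, map_zero] at h0
    rw [hp, hz, zero_mul, GaPts.gaFn_one]
  rw [MonObj.comp_pow, Category.comp_id, ← Category.id_comp j, ← Isogeny14.hom_pow_comp j, hGa, MonObj.one_comp]

/-- The four conditions. -/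
theorem tfae (K : Type u) [Field K] [Algebra R K] [IsFractionRing R K]
    [IsProper ((SGA7.genFib R K).obj G).hom] [GeometricallyIntegral ((SGA7.genFib R K).obj G).hom]
    (hconn : ∀ s : ↥(Spec (CommRingCat.of R)), ConnectedSpace ↥(Red.bc ((Spec (CommRingCat.of R)).fromSpecResidueField s) G).left)
    (hm : 0 < m) :
    [Flat (𝟙 G ^ m).left, Surjective (𝟙 G ^ m).left, LocallyQuasiFinite (𝟙 G ^ m).left,
      (m : IsLocalRing.ResidueField R) ≠ 0 ∨
        SGA7.FibreUnipotentRankZero (IsLocalRing.closedPoint R) G].TFAE := by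
  haveI := TorsLift22.isMonHom_zpow G m
  let S := Spec (CommRingCat.of R)
  let f : G ⟶ G := 𝟙 G ^ m
  have hlft : ∀ y : S, LocallyOfFiniteType ((Over.pullback (S.fromSpecResidueField y)).obj G).hom := fun y =>
    inferInstanceAs (LocallyOfFiniteType (pullback.snd G.hom (S.fromSpecResidueField y)))
  have hqc : ∀ y : S, QuasiCompact ((Over.pullback (S.fromSpecResidueField y)).obj G).hom := fun y =>
    inferInstanceAs (QuasiCompact (pullback.snd G.hom (S.fromSpecResidueField y)))
  tfae_have 1 → 2 := by
    intro h
    refine ⟨fun x => ?_⟩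
    let y := G.hom x
    haveI := hlft y; haveI := hqc y; haveI := hconn y
    let a := (Over.pullback (S.fromSpecResidueField y)).map f
    haveI : Flat a.left := MorphismProperty.of_isPullback (isPullback_map _ f) h
    haveI := surjective_of_flat _ a
    obtain ⟨x', hx'⟩ : x ∈ Set.range (pullback.fst G.hom (S.fromSpecResidueField y)) := by
      rw [Scheme.Pullback.range_fst]
      exact ⟨IsLocalRing.closedPoint _, Scheme.fromSpecResidueField_apply _ _⟩
    obtain ⟨z, hz⟩ := a.left.surjective x'
    refine ⟨pullback.fst G.hom (S.fromSpecResidueField y) z, ?_⟩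
    have e := congrArg (fun k => k z) (isPullback_map (S.fromSpecResidueField y) f).w
    simp only [Scheme.Hom.comp_apply] at e
    rw [← hx', ← hz]
    exact e
  tfae_have 2 → 3 := by
    intro h
    refine (flat_lqf_of_fibres G m fun y => ?_).2
    haveI := hlft y; haveI := hqc y
    haveI : Surjective ((Over.pullback (S.fromSpecResidueField y)).map f).left :=
      MorphismProperty.of_isPullback (isPullback_map _ f) h
    exact lqf_of_surjective _ _
  tfae_have 3 → 1 := by
    intro h
    exact (flat_lqf_of_fibres G m fun y =>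
      MorphismProperty.of_isPullback (isPullback_map _ (𝟙 G ^ m)) h).1
  tfae_have 1 → 4 := by
    intro h
    by_cases h0 : (m : IsLocalRing.ResidueField R) = 0
    · exact Or.inr (fibreUnipotentRankZero_of_flat G m h0 h)
    · exact Or.inl h0
  tfae_have 4 → 1 := by
    rintro (h | h)
    · have hu : IsUnit (m : R) := by
        by_contra hu
        refine h ?_
        rw [← map_natCast (IsLocalRing.residue R)]
        exact (IsLocalRing.residue_eq_zero_iff _).2 hu
      have hu' := hu.map (Scheme.ΓSpecIso (CommRingCat.of R)).inv.hom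
      rw [map_natCast] at hu'
      haveI := etale_pow_flat G (n := m) hu'
      infer_instance
    · let F := SGA7.genFib R K
      let X := F.obj G
      haveI : GeometricallyConnected X.hom := Unital.geometricallyConnected_of_geometricallyIntegral X.hom
      haveI : Smooth X.hom := inferInstanceAs (Smooth (pullback.snd G.hom _))
      haveI : GeometricallyReduced X.hom := AbRigid.geometricallyReduced_of_smooth X.hom
      obtain ⟨h1, -, h2⟩ := Isogeny14.isFinite_flat_surjective_pow X m hm
      have e : F.map (𝟙 G ^ m) = 𝟙 X ^ m :=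
        (map_pow F.homMonoidHom (𝟙 G) m).trans (congrArg (· ^ m) (F.map_id G))
      exact flat_of_semistable (K := K) G G (𝟙 G ^ m) h (by rw [e]; exact h1) (by rw [e]; exact h2)
  tfae_finish

end Groth.Agent.MulFlat8

end
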